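import Cfsg.Agent.H700.F43.Mod

/-!
# `Sp₆(3)` is generated by the block unipotents (S2465, F₄(3), block E; helper980)

* `gen_sp` : `Subgroup.closure {uu T, vv S} = ⊤`.

Every symplectic matrix is a product of block unipotents: first block diagonal matrices (products of two matrices
`[[0, T], [-T⁻¹, 0]]`), then matrices with invertible upper left block, then the lower left block is made diagonal.
-/

set_option autoImplicit false

namespace Cfsg.Agent.H980.F43

open Matrix Cfsg.Agent.H700.F43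

/-- the generators -/
def gens : Set Sp := {A : Sp | (∃ T, ∃ hT : Tᵀ = T, A = uu T hT) ∨ ∃ S, ∃ hS : Sᵀ = S, A = vv S hS}

/-- the generated subgroup -/
abbrev H : Subgroup Sp := Subgroup.closure gens

abbrev M3 := Matrix (Fin 3) (Fin 3) F3
abbrev M6 := Matrix (Fin 3 ⊕ Fin 3) (Fin 3 ⊕ Fin 3) F3

/-- matrices of the generated subgroup -/
def InH (X : M6) : Prop := ∃ h : Sp, h ∈ H ∧ h.1 = X

theorem InH.mul {X Y : M6} (hX : InH X) (hY : InH Y) : InH (X * Y) := by
  obtain ⟨h, hh, rfl⟩ := hX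
  obtain ⟨k, hk, rfl⟩ := hY
  exact ⟨h * k, H.mul_mem hh hk, rfl⟩

theorem inH_u {T : M3} (hT : Tᵀ = T) : InH (fromBlocks 1 T 0 1) :=
  ⟨uu T hT, Subgroup.subset_closure (Or.inl ⟨T, hT, rfl⟩), rfl⟩

theorem inH_v {S : M3} (hS : Sᵀ = S) : InH (fromBlocks 1 0 S 1) :=
  ⟨vv S hS, Subgroup.subset_closure (Or.inr ⟨S, hS, rfl⟩), rfl⟩

theorem mem_of_inH {A : Sp} (h : InH A.1) : A ∈ H := by
  obtain ⟨k, hk, e⟩ := h
  rwa [← Subtype.ext e]

/-- cancellation on the left -/
theorem mem_of_mul_left {A B : Sp} (hB : B ∈ H) (h : B * A ∈ H) : A ∈ H := (H.mul_mem_cancel_left hB).1 h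
theorem mem_of_mul_right {A B : Sp} (hB : B ∈ H) (h : A * B ∈ H) : A ∈ H := (H.mul_mem_cancel_right hB).1 h

/-- the inverse of a symmetric matrix is symmetric -/
theorem sym_inv {T R : M3} (hT : Tᵀ = T) (h : T * R = 1) : Rᵀ = R := by
  have h1 : Rᵀ * T = 1 := by
    have := congrArg transpose h
    rwa [transpose_mul, hT, transpose_one] at this
  calc Rᵀ = Rᵀ * (T * R) := by rw [h, Matrix.mul_one]
    _ = R := by rw [← Matrix.mul_assoc, h1, Matrix.one_mul]

/-- `[[0, T], [-T⁻¹, 0]]` -/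
theorem inH_w {T R : M3} (hT : Tᵀ = T) (h : T * R = 1) : InH (fromBlocks 0 T (-R) 0) := by
  have hR := sym_inv hT h
  have h' : R * T = 1 := mul_eq_one_comm.1 h
  have h1 := ((inH_u hT).mul (inH_v (S := -R) (by rw [transpose_neg, hR]))).mul (inH_u hT)
  rw [fromBlocks_multiply, fromBlocks_multiply] at h1
  have e : fromBlocks 0 T (-R) 0 = (fromBlocks
      ((1 * 1 + T * -R) * 1 + (1 * 0 + T * 1) * 0) ((1 * 1 + T * -R) * T + (1 * 0 + T * 1) * 1)
      ((0 * 1 + 1 * -R) * 1 + (0 * 0 + 1 * 1) * 0) ((0 * 1 + 1 * -R) * T + (0 * 0 + 1 * 1) * 1) : M6) := by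
    congr 1
    · simp [h]
    · simp [h]
    · simp
    · simp [h']
  rw [e]
  exact h1

/-- the block diagonal matrices with upper left block `P` -/
def dOK (P : M3) : Prop := ∀ R : M3, P * R = 1 → InH (fromBlocks P 0 0 Rᵀ)

theorem dOK.mul {P Q : M3} (hP : dOK P) (hQ : dOK Q) : dOK (P * Q) := by
  intro R hR
  have h1 : P * (Q * R) = 1 := by rw [← Matrix.mul_assoc]; exact hR
  have h2 : Q * (R * P) = 1 := by
    rw [← Matrix.mul_assoc]
    exact mul_eq_one_comm.1 h1
  have h3 := (hP _ h1).mul (hQ _ h2)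
  rw [fromBlocks_multiply] at h3
  have e : fromBlocks (P * Q) 0 0 Rᵀ = (fromBlocks (P * Q + 0 * 0) (P * 0 + 0 * (R * P)ᵀ)
      (0 * Q + (Q * R)ᵀ * 0) (0 * 0 + (Q * R)ᵀ * (R * P)ᵀ) : M6) := by
    congr 1
    · simp
    · simp
    · simp
    · rw [← transpose_mul, Matrix.mul_zero, zero_add, show R * P * (Q * R) = R * (P * (Q * R)) from Matrix.mul_assoc _ _ _,
        h1, Matrix.mul_one]
  rw [e]
  exact h3

theorem dOK_one : dOK 1 := by
  intro R hR
  rw [Matrix.one_mul] at hR
  rw [hR, transpose_one, fromBlocks_one]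
  exact ⟨1, H.one_mem, rfl⟩

theorem dOK_of_sym {T T' : M3} (hT : Tᵀ = T) (hT' : T'ᵀ = T') (h' : T' * T' = 1) : dOK (T * T') := by
  intro R hR
  have h1 : T * (T' * R) = 1 := by rw [← Matrix.mul_assoc]; exact hR
  have h2 := inH_w hT h1
  have h3 := inH_w (T := -T') (R := -T') (by rw [transpose_neg, hT']) (by rw [neg_mul_neg, h'])
  have h4 := h2.mul h3
  rw [fromBlocks_multiply] at h4
  have hs := sym_inv hT h1
  have e : fromBlocks (T * T') 0 0 Rᵀ = (fromBlocks (0 * 0 + T * - -T') (0 * -T' + T * 0)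
      (-(T' * R) * 0 + 0 * - -T') (-(T' * R) * -T' + 0 * 0) : M6) := by
    congr 1
    · simp
    · simp
    · simp
    · have h5 : Rᵀ * T' = T' * R := by rw [← hs, transpose_mul, hT']
      have h6 : Rᵀ = T' * R * T' := by
        rw [← h5, Matrix.mul_assoc, h', Matrix.mul_one]
      rw [h6]
      simp
  rw [e]
  exact h4

/-- the permutation matrix of a transposition -/
def sw (i j : Fin 3) : M3 := Matrix.of fun a b => if a = Equiv.swap i j b then 1 else 0

theorem sw_facts : ∀ i j : Fin 3, i ≠ j → ∀ c : F3, (sw i j)ᵀ = sw i j ∧ sw i j * sw i j = 1 ∧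
    (transvection i j c * sw i j)ᵀ = transvection i j c * sw i j := by
  decide +kernel

theorem dOK_transvection {i j : Fin 3} (hij : i ≠ j) (c : F3) : dOK (transvection i j c) := by
  obtain ⟨h1, h2, h3⟩ := sw_facts i j hij c
  have h4 := dOK_of_sym h3 h1 h2
  rwa [Matrix.mul_assoc, h2, Matrix.mul_one] at h4

theorem dOK_list (L : List (TransvectionStruct (Fin 3) F3)) : dOK (L.map TransvectionStruct.toMatrix).prod := by
  induction L with
  | nil => exact dOK_one
  | cons t L ih =>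
    rw [List.map_cons, List.prod_cons]
    exact (dOK_transvection t.hij t.c).mul ih

theorem dOK_diagonal (D : Fin 3 → F3) : dOK (diagonal D) := by
  have h := dOK_of_sym (T := diagonal D) (T' := 1) (diagonal_transpose D) transpose_one (Matrix.mul_one 1)
  rwa [Matrix.mul_one] at h

/-- **all block diagonal matrices** -/
theorem dOK_all (P : M3) : dOK P := by
  obtain ⟨L, L', D, h⟩ := Matrix.Pivot.exists_list_transvec_mul_diagonal_mul_list_transvec P
  rw [h]
  exact ((dOK_list L).mul (dOK_diagonal D)).mul (dOK_list L')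

/-! ### symplectic matrices -/

/-- the relations -/
theorem rel {A B C D : M3} (h : (fromBlocks A B C D : M6) ∈ Matrix.symplecticGroup (Fin 3) F3) :
    Cᵀ * A = Aᵀ * C ∧ Dᵀ * A - Bᵀ * C = 1 ∧ B * Aᵀ = A * Bᵀ := by
  have h1 := SymplecticGroup.mem_iff'.1 h
  have h2 := SymplecticGroup.mem_iff.1 h
  rw [Matrix.J, fromBlocks_transpose, fromBlocks_multiply, fromBlocks_multiply, fromBlocks_inj] at h1 h2
  obtain ⟨h11, -, h13, -⟩ := h1
  obtain ⟨h21, -, -, -⟩ := h2
  simp only [Matrix.mul_zero, Matrix.mul_one, Matrix.mul_neg, zero_add, add_zero, Matrix.neg_mul] at h11 h13 h21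
  refine ⟨?_, ?_, ?_⟩
  · exact (add_neg_eq_zero.1 h11)
  · rw [sub_eq_add_neg]; exact h13
  · exact (add_neg_eq_zero.1 h21)

/-- invertible upper left block -/
theorem mem_of_unit {X : Sp} {A B C D R : M3} (hX : X.1 = fromBlocks A B C D) (hR : A * R = 1) : X ∈ H := by
  have h := X.2
  rw [hX] at h
  obtain ⟨h1, h2, h3⟩ := rel h
  have hR' : R * A = 1 := mul_eq_one_comm.1 hR
  have hRt : Rᵀ * Aᵀ = 1 := by rw [← transpose_mul, hR, transpose_one]
  have hRt' : Aᵀ * Rᵀ = 1 := by rw [← transpose_mul, hR', transpose_one]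
  have hS : (C * R)ᵀ = C * R := by
    rw [transpose_mul]
    calc Rᵀ * Cᵀ = Rᵀ * (Cᵀ * A) * R := by rw [Matrix.mul_assoc, Matrix.mul_assoc, hR, Matrix.mul_one]
      _ = Rᵀ * Aᵀ * (C * R) := by rw [h1]; simp only [Matrix.mul_assoc]
      _ = C * R := by rw [hRt, Matrix.one_mul]
  have hT : (R * B)ᵀ = R * B := by
    rw [transpose_mul]
    calc Bᵀ * Rᵀ = R * (A * Bᵀ) * Rᵀ := by rw [← Matrix.mul_assoc, hR', Matrix.one_mul]
      _ = R * B * (Aᵀ * Rᵀ) := by rw [← h3]; simp only [Matrix.mul_assoc]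
      _ = R * B := by rw [hRt', Matrix.mul_one]
  have hk := ((inH_v hS).mul (dOK_all A R hR)).mul (inH_u hT)
  rw [fromBlocks_multiply, fromBlocks_multiply] at hk
  apply mem_of_inH
  rw [hX]
  have hD : C * R * B + Rᵀ = D := by
    have h4 : Aᵀ * D - Cᵀ * B = 1 := by
      have := congrArg transpose h2
      rwa [transpose_sub, transpose_mul, transpose_mul, transpose_transpose, transpose_transpose, transpose_one] at this
    have h5 : Aᵀ * D = 1 + Cᵀ * B := by rw [← h4]; abel
    have h6 : Rᵀ * Cᵀ = C * R := by rw [← transpose_mul]; exact hS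
    calc C * R * B + Rᵀ = Rᵀ * (1 + Cᵀ * B) := by
          rw [Matrix.mul_add, Matrix.mul_one, ← Matrix.mul_assoc, h6, add_comm]
      _ = Rᵀ * Aᵀ * D := by rw [← h5, Matrix.mul_assoc]
      _ = D := by rw [hRt, Matrix.one_mul]
  have e : (fromBlocks A B C D : M6) = fromBlocks ((1 * A + 0 * 0) * 1 + (1 * 0 + 0 * Rᵀ) * 0)
      ((1 * A + 0 * 0) * (R * B) + (1 * 0 + 0 * Rᵀ) * 1) ((C * R * A + 1 * 0) * 1 + (C * R * 0 + 1 * Rᵀ) * 0)
      ((C * R * A + 1 * 0) * (R * B) + (C * R * 0 + 1 * Rᵀ) * 1) := by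
    congr 1
    · simp
    · simp only [Matrix.one_mul, Matrix.mul_zero, Matrix.zero_mul, add_zero, Matrix.mul_one]
      rw [← Matrix.mul_assoc, hR, Matrix.one_mul]
    · simp only [Matrix.mul_zero, add_zero, Matrix.mul_one]
      rw [Matrix.mul_assoc, hR', Matrix.mul_one]
    · simp only [Matrix.mul_zero, add_zero, Matrix.mul_one, Matrix.one_mul, zero_add]
      rw [Matrix.mul_assoc C R A, hR', Matrix.mul_one, ← Matrix.mul_assoc, hD]
  rw [e]
  exact hk

/-- diagonal lower left block -/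
theorem mem_of_diagonal {X : Sp} {A B D : M3} {d : Fin 3 → F3} (hX : X.1 = fromBlocks A B (diagonal d) D) : X ∈ H := by
  have h := X.2
  rw [hX] at h
  obtain ⟨h1, h2, h3⟩ := rel h
  -- `A j i * d j = A i j * d i`
  have hsym : ∀ i j, A j i * d j = A i j * d i := by
    intro i j
    have := congrFun (congrFun h1 j) i
    rw [diagonal_transpose, diagonal_mul, mul_diagonal, transpose_apply] at this
    rw [mul_comm, this]
  set T : M3 := Matrix.of fun i j => if d i ≠ 0 ∧ d j ≠ 0 then ((if i = j then 1 else 0) - A i j) * (d j)⁻¹ else 0 with hTd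
  have hTa : ∀ i j, T i j = if d i ≠ 0 ∧ d j ≠ 0 then ((if i = j then 1 else 0) - A i j) * (d j)⁻¹ else 0 :=
    fun i j => rfl
  have hT : Tᵀ = T := by
    ext i j
    rw [transpose_apply, hTa, hTa]
    by_cases hi : d i ≠ 0
    · by_cases hj : d j ≠ 0
      · have e1 : (if d j ≠ 0 ∧ d i ≠ 0 then ((if j = i then 1 else 0) - A j i) * (d i)⁻¹ else (0 : F3)) =
            ((if j = i then 1 else 0) - A j i) * (d i)⁻¹ := if_pos ⟨hj, hi⟩
        have e2 : (if d i ≠ 0 ∧ d j ≠ 0 then ((if i = j then 1 else 0) - A i j) * (d j)⁻¹ else (0 : F3)) =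
            ((if i = j then 1 else 0) - A i j) * (d j)⁻¹ := if_pos ⟨hi, hj⟩
        rw [e1, e2]
        by_cases hij : i = j
        · subst hij; rfl
        · rw [if_neg (Ne.symm hij), if_neg hij]
          have := hsym i j
          field_simp
          linear_combination (-1 : F3) * this
      · rw [if_neg (fun h => hj h.1), if_neg (fun h => hj h.2)]
    · rw [if_neg (fun h => hi h.2), if_neg (fun h => hi h.1)]
  -- the new upper left block
  have hinj : ∀ x : Fin 3 → F3, (A + T * diagonal d).mulVec x = 0 → x = 0 := by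
    intro x hx
    have hrow : ∀ j, d j ≠ 0 → ∀ i, (A + T * diagonal d) j i = if j = i then 1 else 0 := by
      intro j hj i
      rw [Matrix.add_apply, mul_diagonal, hTa]
      by_cases hi : d i ≠ 0
      · rw [if_pos ⟨hj, hi⟩, inv_mul_cancel_right₀ hi]
        ring
      · rw [if_neg (fun h => hi h.2), zero_mul, add_zero]
        push Not at hi
        have h4 := hsym i j
        rw [hi, mul_zero] at h4
        have h5 := (mul_eq_zero.1 h4).resolve_right hj
        rw [h5, if_neg]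
        rintro rfl
        exact hj hi
    have hxj : ∀ j, d j ≠ 0 → x j = 0 := by
      intro j hj
      have h4 := congrFun hx j
      rw [Matrix.mulVec, dotProduct] at h4
      simp only [hrow j hj] at h4
      simpa using h4
    have hdx : (diagonal d).mulVec x = 0 := by
      ext i
      rw [mulVec_diagonal]
      by_cases hi : d i = 0
      · rw [hi, zero_mul]; rfl
      · rw [hxj i hi, mul_zero]; rfl
    have hAx : A.mulVec x = 0 := by
      rw [Matrix.add_mulVec, ← Matrix.mulVec_mulVec, hdx, Matrix.mulVec_zero, add_zero] at hx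
      exact hx
    have h5 : (1 : M3).mulVec x = 0 := by
      rw [← h2, Matrix.sub_mulVec, ← Matrix.mulVec_mulVec, ← Matrix.mulVec_mulVec, hAx, hdx, Matrix.mulVec_zero,
        Matrix.mulVec_zero, sub_zero]
    rwa [Matrix.one_mulVec] at h5
  have hunit : IsUnit (A + T * diagonal d) := by
    rw [← Matrix.mulVec_injective_iff_isUnit]
    intro x y hxy
    have h6 : (A + T * diagonal d).mulVec (x - y) = 0 := by
      rw [Matrix.mulVec_sub]
      exact sub_eq_zero.2 hxy
    exact sub_eq_zero.1 (hinj _ h6)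
  obtain ⟨u, hu⟩ := hunit
  have hR : (A + T * diagonal d) * (u⁻¹ : (M3)ˣ).1 = 1 := by rw [← hu]; exact u.mul_inv
  refine mem_of_mul_left (B := uu T hT) (Subgroup.subset_closure (Or.inl ⟨T, hT, rfl⟩)) ?_
  refine mem_of_unit (A := A + T * diagonal d) (B := B + T * D) (C := diagonal d) (D := D) ?_ hR
  show fromBlocks 1 T 0 1 * X.1 = _
  rw [hX, fromBlocks_multiply]
  simp

theorem inv_list (L : List (TransvectionStruct (Fin 3) F3)) :
    ∃ R : M3, (L.map TransvectionStruct.toMatrix).prod * R = 1 := by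
  refine ⟨((L.reverse.map (TransvectionStruct.toMatrix ∘ TransvectionStruct.inv))).prod, ?_⟩
  exact TransvectionStruct.prod_mul_reverse_inv_prod L

/-- **`Sp₆(3)` is generated by the block unipotents** -/
theorem gen_sp : Subgroup.closure {A : Sp | (∃ T, ∃ hT : Tᵀ = T, A = uu T hT) ∨ ∃ S, ∃ hS : Sᵀ = S, A = vv S hS} = ⊤ := by
  show H = ⊤
  rw [eq_top_iff]
  rintro X -
  obtain ⟨A, B, C, D, hX⟩ : ∃ A B C D : M3, X.1 = fromBlocks A B C D :=
    ⟨_, _, _, _, (fromBlocks_toBlocks X.1).symm⟩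
  obtain ⟨L, L', d, hC⟩ := Matrix.Pivot.exists_list_transvec_mul_diagonal_mul_list_transvec C
  obtain ⟨P, hP⟩ := inv_list L
  obtain ⟨P', hP'⟩ := inv_list L'
  set U := (L.map TransvectionStruct.toMatrix).prod
  set U' := (L'.map TransvectionStruct.toMatrix).prod
  -- `P * C * P' = diagonal d`
  have hPU : P * U = 1 := mul_eq_one_comm.1 hP
  have hd : P * C * P' = diagonal d := by
    calc P * C * P' = (P * U) * diagonal d * (U' * P') := by rw [hC]; simp only [Matrix.mul_assoc]
      _ = diagonal d := by rw [hPU, hP', Matrix.one_mul, Matrix.mul_one]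
  obtain ⟨b1, hb1, e1⟩ := dOK_all Uᵀ Pᵀ (by rw [← transpose_mul, hPU, transpose_one])
  obtain ⟨b2, hb2, e2⟩ := dOK_all P' U' (mul_eq_one_comm.1 hP')
  rw [transpose_transpose] at e1
  refine mem_of_mul_left hb1 (mem_of_mul_right hb2 ?_)
  refine mem_of_diagonal (A := Uᵀ * A * P') (B := Uᵀ * B * U'ᵀ) (D := P * D * U'ᵀ) (d := d) ?_
  show b1.1 * X.1 * b2.1 = _
  rw [e1, e2, hX, fromBlocks_multiply, fromBlocks_multiply, ← hd]
  simp

end Cfsg.Agent.H980.F43
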